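import Groth.Agent.Lib.BoxRes9.Gen

/-! Homological functors on perfect objects are uniformly bounded on coherent modules. -/

set_option autoImplicit false
set_option linter.style.haveILetI false
set_option linter.unusedSectionVars false
set_option backward.isDefEq.respectTransparency false
set_option backward.isDefEq.respectTransparency.types false
set_option maxHeartbeats 1600000

universe u u' v'

open CategoryTheory CategoryTheory.Limits AlgebraicGeometry CategoryTheory.Pretriangulated MonoidalCategory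
open Groth.Agent.TwistBC9 (oneD)

attribute [local instance] HasDerivedCategory.standard

noncomputable section

namespace Groth.Agent.BoxRes9

open DMon9

attribute [local instance] DBC9.hasRpush
attribute [local instance] SerreP9.selfOver

variable {X : Scheme.{u}}

/-- The perfect objects, as an object property. -/
abbrev perfD (X : Scheme.{u}) : ObjectProperty (DCoh.D X) := fun K => DCoh.IsPerfect K

variable [(perfD X).IsTriangulated] {A : Type u'} [Category.{v'} A] [Abelian A]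
  (H : (perfD X).FullSubcategory ⥤ A)

/-- The functor kills all shifts outside a window. -/
def Van (m : ℕ) (L : DCoh.D X) : Prop :=
  ∃ hL : DCoh.IsPerfect L, ∀ i : ℤ, (i < -(m : ℤ) ∨ (m : ℤ) < i) →
    IsZero (H.obj ((shiftFunctor (perfD X).FullSubcategory i).obj ⟨L, hL⟩))

variable {H}

theorem Van.iso {m : ℕ} {L L' : DCoh.D X} (e : L ≅ L') (h : Van H m L) : Van H m L' := by
  obtain ⟨hL, hz⟩ := h
  exact ⟨DGen9.isPerfect_of_iso e hL, fun i hi => (hz i hi).of_iso
    (H.mapIso ((shiftFunctor _ i).mapIso ((perfD X).isoMk (X := ⟨L', DGen9.isPerfect_of_iso e hL⟩) (Y := ⟨L, hL⟩) e.symm)))⟩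

theorem Van.mono {m m' : ℕ} (h : m ≤ m') {L : DCoh.D X} (hL : Van H m L) : Van H m' L :=
  ⟨hL.1, fun i hi => hL.2 i (by omega)⟩

theorem Van.shift {m : ℕ} {L : DCoh.D X} (h : Van H m L) (a : ℤ) : Van H (m + a.natAbs) (L⟦a⟧) := by
  obtain ⟨hL, hz⟩ := h
  refine ⟨DGen9.isPerfect_shiftD hL a, fun i hi => ?_⟩
  let e : (⟨L⟦a⟧, DGen9.isPerfect_shiftD hL a⟩ : (perfD X).FullSubcategory) ≅
      (shiftFunctor (perfD X).FullSubcategory a).obj ⟨L, hL⟩ :=
    (perfD X).isoMk (((perfD X).ι.commShiftIso a).app ⟨L, hL⟩).symm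
  exact (hz (a + i) (by omega)).of_iso (H.mapIso ((shiftFunctor _ i).mapIso e ≪≫
    ((shiftFunctorAdd' (perfD X).FullSubcategory a i (a + i) rfl).app ⟨L, hL⟩).symm))

theorem Van.retract {m : ℕ} {L L' : DCoh.D X} (r : Retract L' L) (hL' : DCoh.IsPerfect L') (h : Van H m L) :
    Van H m L' := by
  obtain ⟨hL, hz⟩ := h
  refine ⟨hL', fun i hi => ?_⟩
  let r' : Retract (⟨L', hL'⟩ : (perfD X).FullSubcategory) ⟨L, hL⟩ :=
    ⟨ObjectProperty.homMk r.i, ObjectProperty.homMk r.r, ObjectProperty.hom_ext _ r.retract⟩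
  let r'' := (r'.map (shiftFunctor (perfD X).FullSubcategory i)).map H
  exact (IsZero.iff_id_eq_zero _).2 (by rw [← r''.retract, (hz i hi).eq_of_tgt r''.i 0, zero_comp])

theorem Van.ext [H.IsHomological] {m : ℕ} (T : Triangle (DCoh.D X)) (hT : T ∈ distTriang _) (h₁ : Van H m T.obj₁)
    (h₃ : Van H m T.obj₃) : Van H m T.obj₂ := by
  obtain ⟨h1, hz1⟩ := h₁
  obtain ⟨h3, hz3⟩ := h₃
  have h2 : DCoh.IsPerfect T.obj₂ := DPerf.isPerfect_iff_approx.2
    (DPerf.approx_univ₂ T hT (DPerf.isPerfect_iff_approx.1 h1) (DPerf.isPerfect_iff_approx.1 h3))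
  let f : (⟨T.obj₁, h1⟩ : (perfD X).FullSubcategory) ⟶ ⟨T.obj₂, h2⟩ := ObjectProperty.homMk T.mor₁
  obtain ⟨C, g, h, hT'⟩ := distinguished_cocone_triangle f
  let e := isoTriangleOfIso₁₂ _ _ ((perfD X).ι.map_distinguished _ hT') hT (Iso.refl _) (Iso.refl _)
    (by exact (Category.comp_id _).trans (Category.id_comp _).symm)
  let eC : C ≅ ⟨T.obj₃, h3⟩ := (perfD X).isoMk (Triangle.π₃.mapIso e)
  refine ⟨h2, fun i hi => ?_⟩
  have hex := H.map_distinguished_exact _ (Triangle.shift_distinguished _ hT' i)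
  exact hex.isZero_of_both_zeros ((hz1 i hi).eq_of_src _ _)
    (((hz3 i hi).of_iso (H.mapIso ((shiftFunctor _ i).mapIso eC))).eq_of_tgt _ _)

variable {k : Type u} [Field k] [X.Over (Spec (.of k))]

local notation "ff" => (X ↘ Spec (CommRingCat.of k))
local notation "SS" => Spec (CommRingCat.of k)
local notation "PR" => pullback (X ↘ Spec (CommRingCat.of k)) (X ↘ Spec (CommRingCat.of k))

/-- The cohomological degrees of the twist of a coherent module are bounded. -/
theorem exists_degree_bound [IsProper (X ↘ Spec (CommRingCat.of k))] {E : X.Modules} (hE : FlatMod.IsFinLocFree E) :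
    ∃ N : ℕ, ∀ F : X.Modules, Coh.IsCoh F →
      SGA6.cohbP X ((sgD E ⊗ sgD F : DM X) : DCoh.D X) ∧
      ∀ d : ℤ, Nontrivial (oneD SS 0 ⟶ ((DCoh.Rpush ff).obj ((sgD E ⊗ sgD F : DM X) : DCoh.D X))⟦d⟧) →
        0 ≤ d ∧ d ≤ (N : ℤ) := by
  haveI : IsLocallyNoetherian X := LocallyOfFiniteType.isLocallyNoetherian ff
  haveI : CompactSpace X := QuasiCompact.compactSpace_of_compactSpace ff
  haveI : AlgebraicGeometry.IsNoetherian X := {}
  obtain ⟨cs, _⟩ := DPush.exists_commShift_isTriangulated ff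
  letI := cs
  obtain ⟨N, hN⟩ := DPush.exists_bound ff
  refine ⟨N, fun F hF => ?_⟩
  obtain ⟨c⟩ := nonempty_braid (sgD E) (sgD F)
  obtain ⟨t⟩ := nonempty_sgD_tensor F E hE
  let M : DCoh.D X := DCoh.inD X (CohB1.tensorMod F E)
  let e : ((sgD E ⊗ sgD F : DM X) : DCoh.D X) ≅ M := (c ≪≫ t :)
  have hT : Coh.IsCoh (CohB1.tensorMod F E) := CohFound.isCoh_tensor hF (CohFound.isCoh_of_isFinLocFree hE)
  obtain ⟨hc, a, b, ha, hb⟩ := K0Db.bd_single K0Coh.serre_coh hT 0
  refine ⟨⟨fun i => CohFound.isCoh_of_iso ((DerivedCategory.homologyFunctor _ i).mapIso e.symm) (hc i), a, b,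
    DerivedCategory.TStructure.t.isGE_of_iso e.symm a, DerivedCategory.TStructure.t.isLE_of_iso e.symm b⟩,
    fun d hd => ?_⟩
  by_contra hn
  refine not_nontrivial_iff_subsingleton.2 ?_ hd
  haveI : Subsingleton (oneD SS 0 ⟶ ((DCoh.Rpush ff).obj M)⟦d⟧) := by
    by_cases h0 : d < 0
    · obtain ⟨s⟩ := DbCohPn9.nonempty_secShift (k := k) M d
      haveI : (M⟦d⟧).IsGE (-d) := DerivedCategory.TStructure.t.isGE_shift M 0 d (-d) (by omega)
      haveI : Subsingleton (DCoh.inD X (Coh.structureModule X) ⟶ M⟦d⟧) :=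
        ⟨fun f g => (DerivedCategory.TStructure.t.zero f 0 (-d) (by omega)).trans
          (DerivedCategory.TStructure.t.zero g 0 (-d) (by omega)).symm⟩
      exact s.symm.toEquiv.subsingleton
    · have hq : DCoh.IsQCohD ((DCoh.Rpush ff).obj M) := DPush.isQCohD_rpush ff M fun j => (hc j).1
      have hz : IsZero (DCoh.HD (((DCoh.Rpush ff).obj M)⟦d⟧) 0) :=
        (hN M (fun j => (hc j).1) 0 inferInstance d (by omega)).of_iso
          (((DerivedCategory.homologyFunctor _ 0).shiftIso d 0 d (add_zero d)).app _)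
      exact ⟨fun f g => (PnKoszul9.hom_one_eq_zero (DMV.isQCohD_shift _ hq d) 0 hz f).trans
        (PnKoszul9.hom_one_eq_zero (DMV.isQCohD_shift _ hq d) 0 hz g).symm⟩
  exact (((shiftFunctor (DCoh.D SS) d).mapIso ((DCoh.Rpush ff).mapIso e)).homToEquiv).subsingleton

/-- The uniform bound. -/
theorem exists_uniform_bound [IsProper (X ↘ Spec (CommRingCat.of k))] [Smooth (X ↘ Spec (CommRingCat.of k))]
    [H.IsHomological] (hfin : ∀ K : (perfD X).FullSubcategory,
      Set.Finite {i : ℤ | ¬ IsZero (H.obj ((shiftFunctor (perfD X).FullSubcategory i).obj K))}) :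
    ∃ m : ℕ, ∀ F : X.Modules, Coh.IsCoh F → DCoh.IsPerfect (DCoh.inD X F) → Van H m (DCoh.inD X F) := by
  haveI : IsLocallyNoetherian X := LocallyOfFiniteType.isLocallyNoetherian ff
  haveI : CompactSpace X := QuasiCompact.compactSpace_of_compactSpace ff
  haveI : AlgebraicGeometry.IsNoetherian X := {}
  obtain ⟨E, G, hE, hG, hΔ⟩ := exists_box_envelope (k := k) (Y := X)
  have hpG : DCoh.IsPerfect (DCoh.inD X G) := DPerf.isPerfect_iff_approx.2 (DPerf.approx_inD_of_isFinLocFree hG)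
  obtain ⟨N, hN⟩ := exists_degree_bound (k := k) hE
  obtain ⟨mG, hmG⟩ : ∃ mG : ℕ, Van H mG (DCoh.inD X G) := by
    obtain ⟨B, hB⟩ := ((hfin ⟨_, hpG⟩).image Int.natAbs).bddAbove
    refine ⟨B, hpG, fun i hi => by_contra fun hne => ?_⟩
    have : i.natAbs ≤ B := hB ⟨i, hne, rfl⟩
    omega
  haveI : HasBinaryBiproducts (DCoh.D X) := inferInstance
  have hzero : ∀ (m : ℕ) (Z : DCoh.D X), IsZero Z → Van H m Z := fun m Z hZ => by
    refine ⟨DbCohPn9.isPerfect_isZero hZ, fun i _ => ?_⟩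
    haveI : H.PreservesZeroMorphisms := inferInstance
    exact H.map_isZero ((shiftFunctor (perfD X).FullSubcategory i).map_isZero
      ((IsZero.iff_id_eq_zero _).2 (ObjectProperty.hom_ext _ (hZ.eq_of_src _ _))))
  let S : ObjectProperty (DCoh.D PR) := fun W =>
    ∃ m : ℕ, ∀ F : X.Modules, Coh.IsCoh F → DCoh.IsPerfect (DCoh.inD X F) →
      Van H m ((phiK k (DCoh.inD X F)).obj W)
  let A' : X.Modules → DM PR := fun F => (dPull (pullback.fst ff ff)).obj (sgD F)
  haveI : S.IsStableUnderRetracts := ⟨fun {W W'} r h => by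
    obtain ⟨m, hm⟩ := h
    refine ⟨m, fun F hF hF' => ?_⟩
    let r' := r.map (phiK k (DCoh.inD X F))
    exact (hm F hF hF').retract r' (PerfPush9.isPerfect_retract r'.i r'.r r'.retract (hm F hF hF').1)⟩
  haveI : S.IsStableUnderShift ℤ := ⟨fun a => ⟨fun W h => by
    obtain ⟨m, hm⟩ := h
    refine ⟨m + a.natAbs, fun F hF hF' => ?_⟩
    obtain ⟨e⟩ := kerF_shift (pullback.snd ff ff) (A' F) W a
    exact ((hm F hF hF').shift a).iso e.symm⟩⟩
  haveI : S.ContainsZero := ⟨⟨_, isZero_zero _, 0, fun F _ _ =>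
    haveI := additive_kerF (pullback.snd ff ff) (A' F)
    hzero 0 _ (Functor.map_isZero _ (isZero_zero _))⟩⟩
  haveI : S.IsTriangulatedClosed₂ := ObjectProperty.IsTriangulatedClosed₂.mk' (fun T hT h₁ h₃ => by
    obtain ⟨n, hn⟩ := h₁
    obtain ⟨m, hm⟩ := h₃
    refine ⟨max n m, fun F hF hF' => ?_⟩
    obtain ⟨T', hT', ⟨e₁⟩, ⟨e₂⟩, ⟨e₃⟩⟩ := kerF_triangle (pullback.snd ff ff) (A' F) T hT
    exact (Van.ext T' hT' (((hn F hF hF').mono (le_max_left _ _)).iso e₁.symm)
      (((hm F hF hF').mono (le_max_right _ _)).iso e₃.symm)).iso e₂)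
  haveI : S.IsTriangulated := {}
  let Q : ObjectProperty (DCoh.D X) := fun L => Van H (mG + N) L ∧ DCoh.IsPerfect L
  haveI : Q.IsStableUnderRetracts := ⟨fun r h =>
    ⟨h.1.retract r (PerfPush9.isPerfect_retract r.i r.r r.retract h.2), PerfPush9.isPerfect_retract r.i r.r r.retract h.2⟩⟩
  have hbox : S (DCoh.inD PR (box (R := k) E G)) := ⟨mG + N, fun F hF hF' =>
    (phiK_box_mem Q (fun Z hZ => ⟨hzero _ Z hZ, DbCohPn9.isPerfect_isZero hZ⟩)
      (fun L L' hL hL' => by
        have h := Van.ext _ (binaryBiproductTriangle_distinguished L L') hL.1 hL'.1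
        exact ⟨h, h.1⟩)
      (DGen9.isQCohD_of_isPerfect hF') hE hG (hN F hF).1 fun d hd => by
        have hd' := (hN F hF).2 d hd
        exact ⟨(hmG.shift (-d)).mono (by omega), DGen9.isPerfect_shiftD hpG _⟩).1⟩
  obtain ⟨m, hm⟩ := ((ObjectProperty.triangEnvelope_le_iff _).2 (by
    rintro _ ⟨⟩
    exact hbox)) _ hΔ
  refine ⟨m, fun F hF hF' => ?_⟩
  obtain ⟨e⟩ := nonempty_phiK_oDelta (k := k) (DCoh.inD X F)
  exact (hm F hF hF').iso e

end Groth.Agent.BoxRes9
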