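import Mathlib.Algebra.Homology.DerivedCategory.SingleTriangle
import Mathlib.Algebra.Homology.DerivedCategory.TStructure
import Mathlib.Algebra.Homology.QuasiIso
import Mathlib.Algebra.Homology.Single
import Mathlib.Algebra.Homology.SingleHomology
import Mathlib.CategoryTheory.Triangulated.Subcategory

/-! Resolutions built by iterated surjections, and the triangulated envelopes they land in. -/

set_option autoImplicit false
set_option linter.style.haveILetI false
set_option linter.unusedSectionVars false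
set_option backward.isDefEq.respectTransparency false
set_option backward.isDefEq.respectTransparency.types false

universe w v u

open CategoryTheory CategoryTheory.Limits CategoryTheory.Pretriangulated

namespace Groth.Agent.BoxRes9

variable {A : Type u} [Category.{v} A] [Abelian A]

/-- Short exact sequences chaining a given object to terms in a given class. -/
structure Chain (P : A → Prop) (M : A) where
  /-- syzygies -/
  Z : ℕ → A
  /-- terms -/
  B : ℕ → A
  /-- inclusions -/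
  ι : ∀ m, Z (m + 1) ⟶ B m
  /-- projections -/
  π : ∀ m, B m ⟶ Z m
  w : ∀ m, ι m ≫ π m = 0
  se : ∀ m, (ShortComplex.mk (ι m) (π m) (w m)).ShortExact
  hB : ∀ m, P (B m)
  Z0 : Z 0 = M

theorem exists_chain (P Q : A → Prop)
    (hstep : ∀ N, Q N → ∃ (B : A) (p : B ⟶ N), P B ∧ Epi p ∧ Q (kernel p)) (M : A) (hM : Q M) :
    ∃ c : Chain P M, ∀ m, Q (c.Z m) := by
  choose B p hP hp hQ using hstep
  let Zs : ℕ → {N : A // Q N} := fun m => Nat.rec ⟨M, hM⟩ (fun _ N => ⟨kernel (p N.1 N.2), hQ N.1 N.2⟩) m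
  exact ⟨{ Z := fun m => (Zs m).1
           B := fun m => B (Zs m).1 (Zs m).2
           ι := fun m => kernel.ι (p (Zs m).1 (Zs m).2)
           π := fun m => p (Zs m).1 (Zs m).2
           w := fun m => kernel.condition _
           se := fun m =>
             haveI := hp (Zs m).1 (Zs m).2
             { exact := ShortComplex.exact_of_f_is_kernel _ (kernelIsKernel _) }
           hB := fun m => hP _ _
           Z0 := rfl }, fun m => (Zs m).2⟩

variable {P : A → Prop} {M : A} (c : Chain P M)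

/-- The differential. -/
noncomputable def Chain.d (m : ℕ) : c.B (m + 1) ⟶ c.B m := c.π (m + 1) ≫ c.ι m

theorem Chain.d_d (m : ℕ) : c.d (m + 1) ≫ c.d m = 0 := by
  rw [Chain.d, Chain.d, Category.assoc, ← Category.assoc (c.ι (m + 1)), c.w, zero_comp, comp_zero]

theorem Chain.exact_d_π (m : ℕ) :
    (ShortComplex.mk (c.d m) (c.π m) (by rw [Chain.d, Category.assoc, c.w, comp_zero])).Exact := by
  haveI := (c.se (m + 1)).epi_g
  let φ : ShortComplex.mk (c.d m) (c.π m) (by rw [Chain.d, Category.assoc, c.w, comp_zero]) ⟶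
      ShortComplex.mk (c.ι m) (c.π m) (c.w m) :=
    { τ₁ := c.π (m + 1), τ₂ := 𝟙 _, τ₃ := 𝟙 _, comm₁₂ := by simp [Chain.d], comm₂₃ := by simp }
  haveI : Epi φ.τ₁ := inferInstanceAs (Epi (c.π (m + 1)))
  haveI : IsIso φ.τ₂ := inferInstanceAs (IsIso (𝟙 _))
  haveI : Mono φ.τ₃ := inferInstanceAs (Mono (𝟙 _))
  exact (ShortComplex.exact_iff_of_epi_of_isIso_of_mono φ).2 (c.se m).exact

theorem Chain.exact_d_d (m : ℕ) : (ShortComplex.mk (c.d (m + 1)) (c.d m) (c.d_d m)).Exact := by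
  haveI := (c.se m).mono_f
  let φ : ShortComplex.mk (c.d (m + 1)) (c.π (m + 1)) (by rw [Chain.d, Category.assoc, c.w, comp_zero]) ⟶
      ShortComplex.mk (c.d (m + 1)) (c.d m) (c.d_d m) :=
    { τ₁ := 𝟙 _, τ₂ := 𝟙 _, τ₃ := c.ι m, comm₁₂ := by simp, comm₂₃ := by simp [Chain.d] }
  haveI : Epi φ.τ₁ := inferInstanceAs (Epi (𝟙 _))
  haveI : IsIso φ.τ₂ := inferInstanceAs (IsIso (𝟙 _))
  haveI : Mono φ.τ₃ := inferInstanceAs (Mono (c.ι m))
  exact (ShortComplex.exact_iff_of_epi_of_isIso_of_mono φ).1 (c.exact_d_π (m + 1))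

theorem Chain.exists_resolution₀ (c : Chain P M) :
    ∃ (C : ChainComplex A ℕ) (π : C ⟶ (ChainComplex.single₀ A).obj (c.Z 0)), QuasiIso π ∧ ∀ n, P (C.X n) := by
  let C := ChainComplex.of c.B c.d c.d_d
  have hC : ∀ m : ℕ, C.d (m + 1) m = c.d m := fun m => ChainComplex.of_d c.B c.d m
  have hC0 : C.d 1 0 = c.d 0 := hC 0
  have hd : C.d 1 0 ≫ c.π 0 = 0 := by
    rw [hC0, Chain.d, Category.assoc, c.w, comp_zero]
  refine ⟨ChainComplex.of c.B c.d c.d_d, (ChainComplex.toSingle₀Equiv _ _).symm ⟨c.π 0, hd⟩,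
    ⟨fun n => ?_⟩, c.hB⟩
  cases n with
  | zero =>
    haveI := (c.se 0).epi_g
    rw [ChainComplex.quasiIsoAt₀_iff, ShortComplex.quasiIso_iff_of_zeros']
    · dsimp
      refine (ShortComplex.exact_and_epi_g_iff_of_iso ?_).2 ⟨c.exact_d_π 0, inferInstanceAs (Epi (c.π 0))⟩
      refine ShortComplex.isoMk (Iso.refl _) (Iso.refl _) (Iso.refl _) ?_ ?_
      · show 𝟙 (c.B 1) ≫ c.d 0 = C.d 1 0 ≫ 𝟙 (c.B 0)
        rw [hC0, Category.id_comp, Category.comp_id]
      · show 𝟙 (c.B 0) ≫ c.π 0 = ((ChainComplex.toSingle₀Equiv C (c.Z 0)).symm ⟨c.π 0, hd⟩).f 0 ≫ 𝟙 (c.Z 0)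
        rw [ChainComplex.toSingle₀Equiv_symm_apply_f_zero, Category.id_comp]
        exact (Category.comp_id _).symm
    all_goals rfl
  | succ n =>
    rw [quasiIsoAt_iff_exactAt']
    · rw [HomologicalComplex.exactAt_iff' _ (n + 1 + 1) (n + 1) n (by simp) (by simp)]
      refine ShortComplex.exact_of_iso ?_ (c.exact_d_d n)
      refine ShortComplex.isoMk (Iso.refl _) (Iso.refl _) (Iso.refl _) ?_ ?_
      · show 𝟙 (c.B (n + 1 + 1)) ≫ C.d (n + 1 + 1) (n + 1) = c.d (n + 1) ≫ 𝟙 (c.B (n + 1))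
        rw [hC, Category.id_comp, Category.comp_id]
      · show 𝟙 (c.B (n + 1)) ≫ C.d (n + 1) n = c.d n ≫ 𝟙 (c.B n)
        rw [hC, Category.id_comp, Category.comp_id]
    · apply ChainComplex.exactAt_succ_single_obj

theorem Chain.exists_resolution (c : Chain P M) :
    ∃ (C : ChainComplex A ℕ) (π : C ⟶ (ChainComplex.single₀ A).obj M), QuasiIso π ∧ ∀ n, P (C.X n) := by
  have := c.exists_resolution₀
  rwa [c.Z0] at this

variable [HasDerivedCategory.{w} A] (T : ObjectProperty (DerivedCategory A)) [T.IsTriangulated]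
  [T.IsStableUnderRetracts]

local notation "S₀" => DerivedCategory.singleFunctor A 0

/-- If maps out of the first object into far shifts of syzygies vanish, it lies in the subcategory. -/
theorem Chain.mem (c : Chain P M) {N : ℕ} (hT : ∀ m, m < N → T ((S₀).obj (c.B m)))
    (hN : ∀ φ : (S₀).obj M ⟶ ((S₀).obj (c.Z N))⟦(N : ℤ)⟧, φ = 0) : T ((S₀).obj M) := by
  obtain ⟨Z, B, ι, π, w, se, hB, rfl⟩ := c
  have key : ∀ m : ℕ, m ≤ N → ∃ f : (S₀).obj (Z 0) ⟶ ((S₀).obj (Z m))⟦(m : ℤ)⟧, T.trW f := by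
    intro m
    induction m with
    | zero =>
      exact fun _ => ⟨(shiftFunctorZero (DerivedCategory A) ℤ).inv.app _, T.trW_of_isIso _⟩
    | succ m ih =>
      intro hm
      obtain ⟨f, hf⟩ := ih (by omega)
      let tr := (se m).singleTriangle
      have hδ : T.trW tr.mor₃ :=
        ObjectProperty.trW.mk T (T := tr.rotate.rotate)
          (rot_of_distTriang _ (rot_of_distTriang _ (se m).singleTriangle_distinguished))
          (T.le_shift (1 : ℤ) _ (hT m hm))
      let e := (shiftFunctorAdd' (DerivedCategory A) (1 : ℤ) (m : ℤ) ((m + 1 : ℕ) : ℤ) (by omega)).app ((S₀).obj (Z (m + 1)))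
      exact ⟨f ≫ tr.mor₃⟦(m : ℤ)⟧' ≫ e.inv,
        MorphismProperty.comp_mem _ _ _ hf (MorphismProperty.comp_mem _ _ _ (hδ.shift (m : ℤ)) (T.trW_of_isIso _))⟩
  obtain ⟨f, hf⟩ := key N le_rfl
  rw [hN f] at hf
  obtain ⟨Q, g, h, hT', hQ⟩ := hf
  let tr := Triangle.mk (0 : (S₀).obj (Z 0) ⟶ ((S₀).obj (Z N))⟦(N : ℤ)⟧) g h
  obtain ⟨s, hs⟩ := Triangle.coyoneda_exact₃ (T := tr.rotate) (rot_of_distTriang _ hT') (𝟙 _) (by
    simp [tr, Triangle.rotate])
  -- a section of `h`
  refine ObjectProperty.IsStableUnderShiftBy.le_shift (P := T) (a := (-1 : ℤ)) _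
    (ObjectProperty.IsStableUnderRetracts.of_retract ⟨s, h, hs.symm⟩ hQ) |> fun h' => ?_
  exact T.prop_of_iso ((shiftFunctorCompIsoId (DerivedCategory A) (1 : ℤ) (-1) (by omega)).app _) h'

end Groth.Agent.BoxRes9
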