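import Groth.Agent.Lib.BoxRes9.Main
import Groth.Agent.Lib.BoxRes9.Resol
import Groth.Agent.Lib.DPerf.Noeth
import Groth.Agent.Lib.DMV.Perfect
import Groth.Agent.Lib.WeilExt.Regular
import Groth.Agent.Lib.CohFound.ClosedImmPush
import Groth.Agent.Lib.CurveCoh17.Integral
import Groth.Agent.S1109
import Groth.Agent.Lib.RHom.K0Coh

/-! Resolving the diagonal by box products of locally free modules. -/

set_option autoImplicit false
set_option linter.style.haveILetI false
set_option linter.unusedSectionVars false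
set_option backward.isDefEq.respectTransparency false
set_option backward.isDefEq.respectTransparency.types false
set_option maxHeartbeats 1600000

universe u

open CategoryTheory CategoryTheory.Limits AlgebraicGeometry CategoryTheory.Pretriangulated

attribute [local instance] HasDerivedCategory.standard
attribute [local instance] CategoryTheory.Abelian.hasFiniteBiproducts

noncomputable section

namespace Groth.Agent.BoxRes9

variable {R : Type u} [CommRing R] {X : Scheme.{u}} [X.Over (Spec (.of R))]

local notation "ff" => (X ↘ Spec (CommRingCat.of R))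
local notation "PR" => pullback (X ↘ Spec (CommRingCat.of R)) (X ↘ Spec (CommRingCat.of R))
local notation "p₁" => pullback.fst (X ↘ Spec (CommRingCat.of R)) (X ↘ Spec (CommRingCat.of R))
local notation "p₂" => pullback.snd (X ↘ Spec (CommRingCat.of R)) (X ↘ Spec (CommRingCat.of R))

/-- The box product of two modules on the square. -/
abbrev box (E G : X.Modules) : (PR).Modules :=
  CohB1.tensorMod ((Scheme.Modules.pullback p₁).obj E) ((Scheme.Modules.pullback p₂).obj G)

variable (R X) in
/-- The direct image of the structure sheaf under the diagonal. -/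
abbrev oDelta : (PR).Modules :=
  (Coh.push (pullback.diagonal ff)).obj (Coh.structureModule X)

variable [IsNoetherianRing R] [IsSeparated (X ↘ Spec (CommRingCat.of R))]
  [LocallyOfFiniteType (X ↘ Spec (CommRingCat.of R))] [CompactSpace X]

theorem isLocallyNoetherian_square : IsLocallyNoetherian PR := by
  haveI : LocallyOfFiniteType p₂ := MorphismProperty.pullback_snd (P := @LocallyOfFiniteType) _ _ inferInstance
  haveI : LocallyOfFiniteType (p₂ ≫ ff) := inferInstance
  exact LocallyOfFiniteType.isLocallyNoetherian (p₂ ≫ ff)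

theorem exists_chain_diag (hX : PerfAux.HasResolutionProperty X) :
    ∃ c : Chain (fun B : (PR).Modules => ∃ E G : X.Modules, FlatMod.IsFinLocFree E ∧ FlatMod.IsFinLocFree G ∧
      Nonempty (B ≅ box E G)) (oDelta R X), ∀ m, Coh.IsCoh (c.Z m) := by
  haveI : IsLocallyNoetherian X := LocallyOfFiniteType.isLocallyNoetherian ff
  haveI : IsLocallyNoetherian PR := isLocallyNoetherian_square
  haveI : QuasiSeparatedSpace X := quasiSeparatedSpace_of_quasiSeparated ff
  refine exists_chain _ Coh.IsCoh (fun N hN => ?_) _ (CohFound.isCoh_push_closedImm _ (M1.isCoh_structureModule X))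
  obtain ⟨E, G, hE, hG, π, hπ⟩ := exists_epi (R := R) hX hX N hN.1 hN.2
  exact ⟨box E G, π, ⟨E, G, hE, hG, ⟨Iso.refl _⟩⟩, hπ, CurveCoh17.isCoh_kernel
    (CohFound.isCoh_tensor (CohFound.isCoh_of_isFinLocFree (M2.isFinLocFree_pullback _ hE))
      (CohFound.isCoh_of_isFinLocFree (M2.isFinLocFree_pullback _ hG))) hN.1 π⟩

variable {k : Type u} [Field k] {Y : Scheme.{u}} [Y.Over (Spec (.of k))] [CompactSpace Y]
  [IsSeparated (Y ↘ Spec (CommRingCat.of k))] [Smooth (Y ↘ Spec (CommRingCat.of k))]

theorem regular_of_smooth_field {Z : Scheme.{u}} (f : Z ⟶ Spec (CommRingCat.of k)) [Smooth f] :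
    ∀ z : Z, IsRegularLocalRing (Z.presheaf.stalk z) :=
  fun z => WeilExt.isRegularLocalRing_of_smooth f (fun s => WeilExt.isRegularLocalRing_stalk_Spec _ s) z

variable (k) in
include k in
theorem hasResolutionProperty_of_smooth : PerfAux.HasResolutionProperty Y := by
  haveI : IsLocallyNoetherian Y := LocallyOfFiniteType.isLocallyNoetherian (Y ↘ Spec (CommRingCat.of k))
  haveI : Y.IsSeparated := ⟨by
    rw [← terminal.comp_from (Y ↘ Spec (CommRingCat.of k))]
    infer_instance⟩
  exact Groth.Agent.S1109.result Y (regular_of_smooth_field (Y ↘ Spec (CommRingCat.of k))) fun U V hU hV => hU.inf hV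

theorem isPerfect_oDelta : DCoh.IsPerfect (DCoh.inD _ (oDelta k Y)) := by
  haveI : IsLocallyNoetherian Y := LocallyOfFiniteType.isLocallyNoetherian (Y ↘ Spec (CommRingCat.of k))
  let PY := pullback (Y ↘ Spec (CommRingCat.of k)) (Y ↘ Spec (CommRingCat.of k))
  haveI : IsLocallyNoetherian PY := isLocallyNoetherian_square (R := k) (X := Y)
  haveI : Smooth (pullback.snd (Y ↘ Spec (CommRingCat.of k)) (Y ↘ Spec (CommRingCat.of k))) :=
    MorphismProperty.pullback_snd (P := @Smooth) _ _ inferInstance
  have hc : Coh.IsCoh (oDelta k Y) := CohFound.isCoh_push_closedImm _ (M1.isCoh_structureModule Y)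
  refine DPerf.isPerfect_iff_approx.2 (DPerf.isPerfect_of_regular
    (regular_of_smooth_field (pullback.snd (Y ↘ Spec (CommRingCat.of k)) (Y ↘ Spec (CommRingCat.of k)) ≫
      (Y ↘ Spec (CommRingCat.of k)))) 1 0 _ inferInstance
    (fun i hi => DerivedCategory.isZero_of_isLE _ 0 i (by omega)) ?_)
  haveI : CompactSpace PY :=
    QuasiCompact.compactSpace_of_compactSpace (pullback.snd (Y ↘ Spec (CommRingCat.of k)) (Y ↘ Spec (CommRingCat.of k)))
  haveI : AlgebraicGeometry.IsNoetherian PY := {}
  exact (K0Db.bd_single K0Coh.serre_coh hc 0).1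

/-- The diagonal is built from one box product. -/
theorem exists_box_envelope :
    ∃ (E G : Y.Modules), FlatMod.IsFinLocFree E ∧ FlatMod.IsFinLocFree G ∧
      ObjectProperty.triangEnvelope (ObjectProperty.ofObj fun _ : PUnit.{u + 1} => DCoh.inD _ (box (R := k) E G))
        (DCoh.inD _ (oDelta k Y)) := by
  classical
  haveI : IsLocallyNoetherian Y := LocallyOfFiniteType.isLocallyNoetherian (Y ↘ Spec (CommRingCat.of k))
  let PY := pullback (Y ↘ Spec (CommRingCat.of k)) (Y ↘ Spec (CommRingCat.of k))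
  haveI : IsLocallyNoetherian PY := isLocallyNoetherian_square (R := k) (X := Y)
  haveI : CompactSpace PY :=
    QuasiCompact.compactSpace_of_compactSpace (pullback.snd (Y ↘ Spec (CommRingCat.of k)) (Y ↘ Spec (CommRingCat.of k)))
  haveI : QuasiSeparatedSpace Y := quasiSeparatedSpace_of_quasiSeparated (Y ↘ Spec (CommRingCat.of k))
  haveI : QuasiSeparatedSpace PY := quasiSeparatedSpace_of_quasiSeparated
    (pullback.snd (Y ↘ Spec (CommRingCat.of k)) (Y ↘ Spec (CommRingCat.of k)))
  haveI : AlgebraicGeometry.IsNoetherian PY := {}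
  obtain ⟨c, hc⟩ := exists_chain_diag (R := k) (X := Y) (hasResolutionProperty_of_smooth k)
  obtain ⟨a, b, hab⟩ := DMV.exists_shift_bound _ (isPerfect_oDelta (k := k) (Y := Y))
  let N : ℕ := (1 - a).toNat
  choose E G hE hG e using fun m : Fin N => c.hB m
  let SE : Y.Modules := ⨁ E
  let SG : Y.Modules := ⨁ G
  refine ⟨SE, SG, KFlat.Sch.isFinLocFree_biproduct _ hE, KFlat.Sch.isFinLocFree_biproduct _ hG, ?_⟩
  let O : ObjectProperty (DCoh.D PY) := ObjectProperty.ofObj fun _ : PUnit.{u + 1} => DCoh.inD _ (box (R := k) SE SG)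
  have hO : O (DCoh.inD _ (box (R := k) SE SG)) := ObjectProperty.ofObj_apply _ PUnit.unit
  haveI : O.Nonempty := ⟨⟨_, hO⟩⟩
  refine c.mem O.triangEnvelope (N := N) (fun m hm => ?_) fun φ => ?_
  · obtain ⟨e'⟩ := e ⟨m, hm⟩
    let i₁ : box (R := k) (E ⟨m, hm⟩) (G ⟨m, hm⟩) ⟶ box (R := k) SE SG :=
      M2.tensorMap ((Scheme.Modules.pullback _).map (biproduct.ι E ⟨m, hm⟩)) ((Scheme.Modules.pullback _).map (biproduct.ι G ⟨m, hm⟩))
    let r₁ : box (R := k) SE SG ⟶ box (R := k) (E ⟨m, hm⟩) (G ⟨m, hm⟩) :=
      M2.tensorMap ((Scheme.Modules.pullback _).map (biproduct.π E ⟨m, hm⟩)) ((Scheme.Modules.pullback _).map (biproduct.π G ⟨m, hm⟩))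
    have hir : i₁ ≫ r₁ = 𝟙 _ := by
      rw [← M2.tensorMap_comp, ← Functor.map_comp, ← Functor.map_comp, biproduct.ι_π_self, biproduct.ι_π_self,
        CategoryTheory.Functor.map_id, CategoryTheory.Functor.map_id, M2.tensorMap_id]
    refine ObjectProperty.IsStableUnderRetracts.of_retract (P := O.triangEnvelope)
      (Retract.map (⟨e'.hom ≫ i₁, r₁ ≫ e'.inv, by simp [reassoc_of% hir]⟩ : Retract (c.B m) (box (R := k) SE SG))
        (DerivedCategory.singleFunctor (PY).Modules 0)) (O.le_triangEnvelope _ hO)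
  · refine (hab _ (fun j => (K0Db.bd_single K0Coh.serre_coh (hc N) 0).1 j |>.1) N fun i hi _ => DerivedCategory.isZero_of_isLE _ 0 i (by omega)).1 φ

end Groth.Agent.BoxRes9
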