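import Groth.Agent.Lib.BoxRes9.Kernel
import Groth.Agent.Lib.DbCohPn9.Main
import Groth.Agent.Lib.SerreP9.Base
import Groth.Agent.Lib.BC8.AffineLine

/-! A strong generator of the perfect objects of a smooth proper scheme over a field. -/

set_option autoImplicit false
set_option linter.style.haveILetI false
set_option linter.unusedSectionVars false
set_option backward.isDefEq.respectTransparency false
set_option backward.isDefEq.respectTransparency.types false
set_option maxHeartbeats 1600000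

universe u v w

open CategoryTheory CategoryTheory.Limits AlgebraicGeometry CategoryTheory.Pretriangulated MonoidalCategory
open Groth.Agent.TwistBC9 (oneD)

attribute [local instance] HasDerivedCategory.standard

noncomputable section

namespace Groth.Agent.BoxRes9

open DMon9

attribute [local instance] DBC9.hasRpush
attribute [local instance] SerreP9.selfOver

section General

variable {C : Type v} [Category.{w} C] [HasZeroObject C] [HasShift C ℤ] [Preadditive C]
  [∀ n : ℤ, (shiftFunctor C n).Additive] [Pretriangulated C]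

/-- Reindexing a finite biproduct across universes. -/
def reindexIso {β : Type*} {γ : Type*} [HasFiniteBiproducts C] [Finite β] [Finite γ] (e : β ≃ γ) (f : γ → C) :
    (⨁ fun b => f (e b)) ≅ ⨁ f where
  hom := biproduct.desc fun b => biproduct.ι f (e b)
  inv := biproduct.lift fun b => biproduct.π f (e b)
  hom_inv_id := by
    refine biproduct.hom_ext' _ _ fun a => biproduct.hom_ext _ _ fun b => ?_
    rcases eq_or_ne a b with rfl | h
    · simp
    · simp [biproduct.ι_π_ne _ h, biproduct.ι_π_ne _ (e.injective.ne h)]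
  inv_hom_id := by
    refine biproduct.hom_ext' _ _ fun a => ?_
    classical
    obtain ⟨a, rfl⟩ := e.surjective a
    rw [← Category.assoc, show biproduct.ι f (e a) ≫ biproduct.lift (fun b => biproduct.π f (e b)) =
      biproduct.ι (fun b => f (e b)) a from biproduct.hom_ext _ _ fun b => by
        rcases eq_or_ne a b with rfl | h
        · simp
        · simp [biproduct.ι_π_ne _ h, biproduct.ι_π_ne _ (e.injective.ne h)],
      biproduct.ι_desc, Category.comp_id]

theorem prop_biproduct (Q : ObjectProperty C) [Q.IsStableUnderRetracts] [HasFiniteBiproducts C]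
    (h0 : ∀ Z, IsZero Z → Q Z) (h2 : ∀ A B, Q A → Q B → Q (A ⊞ B)) :
    ∀ (n : ℕ) (L : Fin n → C), (∀ i, Q (L i)) → Q (⨁ L)
  | 0, L, _ => h0 _ ((IsZero.iff_id_eq_zero _).2 (biproduct.hom_ext' _ _ fun j => j.elim0))
  | n + 1, L, h => by
    let T := fun i : Fin n => L i.succ
    let s : (⨁ L) ⟶ L 0 ⊞ ⨁ T := biprod.lift (biproduct.π L 0) (biproduct.lift fun i => biproduct.π L i.succ)
    let r : L 0 ⊞ (⨁ T) ⟶ ⨁ L := biprod.desc (biproduct.ι L 0) (biproduct.desc fun i => biproduct.ι L i.succ)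
    refine ObjectProperty.IsStableUnderRetracts.of_retract (P := Q) ⟨s, r, ?_⟩
      (h2 _ _ (h 0) (prop_biproduct Q h0 h2 n T fun i => h _))
    refine biproduct.hom_ext' _ _ fun j => biproduct.hom_ext _ _ fun l => ?_
    classical
    rw [biprod.lift_desc, biproduct.lift_desc, Category.comp_id, Preadditive.comp_add, Preadditive.add_comp,
      Preadditive.comp_sum, Preadditive.sum_comp]
    have hj : ∀ a : Fin (n + 1), (biproduct.ι L j ≫ biproduct.π L a ≫ biproduct.ι L a) ≫ biproduct.π L l =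
        if a = j then biproduct.ι L j ≫ biproduct.π L l else 0 := fun a => by
      by_cases e : a = j
      · subst e
        simp [biproduct.ι_π_self_assoc]
      · simp [biproduct.ι_π_ne_assoc L (Ne.symm e), e]
    simp only [Category.assoc] at hj ⊢
    rw [hj 0, Finset.sum_congr rfl (fun i _ => hj i.succ),
      ← Fin.sum_univ_succ (f := fun a : Fin (n + 1) => if a = j then biproduct.ι L j ≫ biproduct.π L l else 0),
      Finset.sum_ite_eq' Finset.univ j, if_pos (Finset.mem_univ j)]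

variable (P : ObjectProperty C)

theorem iter_isZero {X Z : C} (hX : P X) (hZ : IsZero Z) (n : ℕ) : P.triangEnvelopeIter n Z :=
  ObjectProperty.IsStableUnderRetracts.of_retract (P := P.triangEnvelopeIter n)
    ⟨(0 : Z ⟶ X), 0, hZ.eq_of_src _ _⟩ (P.le_triangEnvelopeIter n _ hX)

theorem iter_biprod [HasBinaryBiproducts C] {A B : C} (hA : P.triangEnvelopeIter 0 A)
    (hB : P.triangEnvelopeIter 0 B) : P.triangEnvelopeIter 0 (A ⊞ B) := by
  rw [ObjectProperty.triangEnvelopeIter_zero] at hA hB ⊢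
  obtain ⟨A', hA', ⟨rA⟩⟩ := hA
  obtain ⟨B', hB', ⟨rB⟩⟩ := hB
  refine ⟨A' ⊞ B', (P.shiftClosure ℤ).binaryProductsClosure.prop_of_isLimit_binaryFan
    (BinaryBiproduct.isLimit A' B') hA' hB', ⟨⟨biprod.map rA.i rB.i, biprod.map rA.r rB.r, ?_⟩⟩⟩
  ext <;> simp

end General

variable {k : Type u} [Field k] {X : Scheme.{u}} [X.Over (Spec (.of k))]

local notation "ff" => (X ↘ Spec (CommRingCat.of k))
local notation "SS" => Spec (CommRingCat.of k)
local notation "PR" => pullback (X ↘ Spec (CommRingCat.of k)) (X ↘ Spec (CommRingCat.of k))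

/-- The direct image to the base splits into finitely many shifted structure sheaves. -/
theorem exists_rpush_decomp [IsProper (X ↘ Spec (CommRingCat.of k))] {M : DCoh.D X} (h : SGA6.cohbP X M) :
    ∃ (n : ℕ) (d : Fin n → ℤ), Nonempty ((DCoh.Rpush ff).obj M ≅ ⨁ fun j => oneD SS (d j)) ∧
      ∀ j, Nontrivial (oneD SS 0 ⟶ ((DCoh.Rpush ff).obj M)⟦d j⟧) := by
  haveI : IsLocallyNoetherian X := LocallyOfFiniteType.isLocallyNoetherian ff
  haveI : CompactSpace X := QuasiCompact.compactSpace_of_compactSpace ff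
  obtain ⟨cs, _⟩ := DPush.exists_commShift_isTriangulated ff
  letI := cs
  let R := (DCoh.Rpush ff).obj M
  have hR : DCoh.IsQCohD R := DPush.isQCohD_rpush ff M fun i => (h.1 i).1
  obtain ⟨hfin, hbd⟩ := DbCohPn9.finite_of_cohbP (k := k) h
  have e : ∀ i : ℤ, Nonempty ((oneD SS 0 ⟶ R⟦i⟧) ≃ₗ[k] (oneD SS i ⟶ R)) := fun i => by
    let t := ((DerivedCategory.singleFunctors (SS).Modules).shiftIso i 0 i (add_zero i)).app (Coh.structureModule SS)
    exact ⟨(Linear.homCongr k t.symm (Iso.refl (R⟦i⟧))).trans (LinearEquiv.ofBijective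
      ((shiftFunctor (DCoh.D SS) i).mapLinearMap k)
      ((Functor.FullyFaithful.ofFullyFaithful (shiftFunctor (DCoh.D SS) i)).map_bijective _ _)).symm⟩
  obtain ⟨ι, d, v, hc, b, hiso, -, hd⟩ := SerreP9.exists_decomposition k R hR
  have hf : ∀ i : ℤ, Module.Finite k (oneD SS 0 ⟶ R⟦i⟧) := fun i => by
    obtain ⟨s⟩ := DbCohPn9.nonempty_secShift (k := k) M i
    haveI := hfin i
    exact Module.Finite.equiv s
  have hs : Set.Finite {i : ℤ | Nontrivial (oneD SS 0 ⟶ R⟦i⟧)} := hbd.subset fun i hi => by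
    obtain ⟨s⟩ := DbCohPn9.nonempty_secShift (k := k) M i
    haveI : Nontrivial (oneD SS 0 ⟶ R⟦i⟧) := hi
    exact s.toEquiv.nontrivial
  have hd' : ∀ i : ι, Nontrivial (oneD SS 0 ⟶ R⟦d i⟧) := fun i => by
    by_contra hn
    obtain ⟨en⟩ := e (d i)
    haveI := not_nontrivial_iff_subsingleton.1 hn
    exact (hd (d i)).2 en.symm.toEquiv.subsingleton i rfl
  haveI : Finite ι := by
    refine Set.finite_univ_iff.1 ((Set.Finite.biUnion hs (fun n _ => (hd n).1 ?_)).subset
      fun i _ => Set.mem_biUnion (x := d i) (hd' i) rfl)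
    obtain ⟨en⟩ := e n
    haveI := hf n
    exact Module.Finite.equiv en
  obtain ⟨n, ⟨eι⟩⟩ := Finite.exists_equiv_fin ι
  haveI : HasFiniteBiproducts (DCoh.D SS) := HasFiniteBiproducts.of_hasFiniteProducts
  exact ⟨n, fun j => d (eι.symm j), ⟨(asIso (Sigma.desc v)).symm ≪≫
    (biproduct.isoCoproduct fun i => oneD SS (d i)).symm ≪≫ (reindexIso eι.symm fun i => oneD SS (d i)).symm⟩, fun j => hd' _⟩

/-- The value on a shifted structure sheaf of the base. -/
theorem nonempty_theta_oneD (G : X.Modules) (d : ℤ) :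
    Nonempty ((lP ff ⋙ FMAdj9.tRD (sgD G)).obj (oneD SS d) ≅ (DCoh.inD X G)⟦-d⟧) := by
  obtain ⟨_, _⟩ := DPush.exists_commShift_isTriangulated ff
  letI := (adjLP ff).leftAdjointCommShift ℤ
  let e : (lP ff).obj (oneD SS d) ≅ (SerreP9.one X)⟦-d⟧ :=
    (lP ff).mapIso (eqToIso (by rw [neg_neg]) ≪≫ (BC8.shiftOne SS (-d)).symm) ≪≫
      ((lP ff).commShiftIso (-d)).app _ ≪≫ (shiftFunctor _ (-d)).mapIso SerreP9.pullOne.symm
  haveI := KFlat.Sch.hasLTensorCx (kfOf (sgD G)).obj
  let t : FMAdj9.tRD (sgD G) ≅ DCoh.LTensorCx (kfOf (sgD G)).obj :=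
    (FMAdj9.tRDMap (kfIso (sgD G))).symm ≪≫ theta (kfOf (sgD G))
  obtain ⟨s⟩ := TwistBC9.nonempty_LT_shift (kfOf (sgD G)) (SerreP9.one X) (-d)
  let u : (FMAdj9.tRD (sgD G)).obj (SerreP9.one X) ≅ DCoh.inD X G := (λ_ (sgD G) :)
  exact ⟨(FMAdj9.tRD (sgD G)).mapIso e ≪≫ t.app _ ≪≫ s ≪≫
    (shiftFunctor _ (-d)).mapIso ((t.app _).symm ≪≫ u)⟩

theorem additive_lP {P Q : Scheme.{u}} (g : P ⟶ Q) : (lP g).Additive := by
  haveI := (adjLP g).isLeftAdjoint
  haveI := preservesBinaryBiproducts_of_preservesBinaryCoproducts (lP g)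
  exact Functor.additive_of_preservesBinaryBiproducts _

/-- The image of a perfect object under a box product kernel. -/
theorem phiK_box_mem [IsProper (X ↘ Spec (CommRingCat.of k))] [Flat (X ↘ Spec (CommRingCat.of k))]
    (Q : ObjectProperty (DCoh.D X)) [Q.IsStableUnderRetracts] (h0 : ∀ Z, IsZero Z → Q Z)
    (h2 : ∀ A B, Q A → Q B → Q (A ⊞ B)) {K : DCoh.D X} (hK : DCoh.IsQCohD K) {E G : X.Modules}
    (hE : FlatMod.IsFinLocFree E) (hG : FlatMod.IsFinLocFree G)
    (hM : SGA6.cohbP X ((sgD E ⊗ (K : DM X) : DM X) : DCoh.D X))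
    (hQ : ∀ d : ℤ, Nontrivial (oneD SS 0 ⟶ ((DCoh.Rpush ff).obj ((sgD E ⊗ (K : DM X) : DM X) : DCoh.D X))⟦d⟧) →
      Q ((DCoh.inD X G)⟦-d⟧)) :
    Q ((phiK k K).obj (DCoh.inD PR (box (R := k) E G))) := by
  obtain ⟨e⟩ := nonempty_phiK_box (k := k) K hK hE hG
  obtain ⟨n, d, ⟨eR⟩, hd⟩ := exists_rpush_decomp (k := k) hM
  haveI : HasFiniteBiproducts (DCoh.D X) := HasFiniteBiproducts.of_hasFiniteProducts
  haveI : HasFiniteBiproducts (DCoh.D SS) := HasFiniteBiproducts.of_hasFiniteProducts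
  haveI := additive_lP ff
  haveI := SerreP9.additive_tRD (sgD G)
  let Θ := lP ff ⋙ FMAdj9.tRD (sgD G)
  haveI : Θ.Additive := inferInstance
  refine Q.prop_of_iso (e ≪≫ Θ.mapIso eR ≪≫ Θ.mapBiproduct _).symm (prop_biproduct Q h0 h2 n _ fun j => ?_)
  obtain ⟨t⟩ := nonempty_theta_oneD (k := k) G (d j)
  exact Q.prop_of_iso t.symm (hQ _ (hd j))

/-- The perfect objects have a strong generator. -/
theorem exists_strong_generator [IsProper (X ↘ Spec (CommRingCat.of k))] [Smooth (X ↘ Spec (CommRingCat.of k))] :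
    ∃ (E : DCoh.D X) (n : ℕ), DCoh.IsPerfect E ∧
      ∀ K : DCoh.D X, DCoh.IsPerfect K →
        ObjectProperty.triangEnvelopeIter (ObjectProperty.ofObj (fun _ : PUnit.{u + 1} => E)) n K := by
  haveI : IsLocallyNoetherian X := LocallyOfFiniteType.isLocallyNoetherian ff
  haveI : CompactSpace X := QuasiCompact.compactSpace_of_compactSpace ff
  haveI : AlgebraicGeometry.IsNoetherian X := {}
  obtain ⟨E, G, hE, hG, hΔ⟩ := exists_box_envelope (k := k) (Y := X)
  have hpG : DCoh.IsPerfect (DCoh.inD X G) := DPerf.isPerfect_iff_approx.2 (DPerf.approx_inD_of_isFinLocFree hG)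
  let O : ObjectProperty (DCoh.D X) := ObjectProperty.ofObj (fun _ : PUnit.{u + 1} => DCoh.inD X G)
  have hO : O (DCoh.inD X G) := ObjectProperty.ofObj_apply _ PUnit.unit
  let S : ObjectProperty (DCoh.D PR) := fun W =>
    ∃ n, ∀ K, DCoh.IsPerfect K → O.triangEnvelopeIter n ((phiK k K).obj W)
  haveI : S.IsStableUnderRetracts := ⟨fun {W W'} r h => by
    obtain ⟨n, hn⟩ := h
    exact ⟨n, fun K hK => ObjectProperty.IsStableUnderRetracts.of_retract (r.map _) (hn K hK)⟩⟩
  haveI : S.IsStableUnderShift ℤ := ⟨fun a => ⟨fun W h => by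
    obtain ⟨n, hn⟩ := h
    refine ⟨n, fun K hK => ?_⟩
    obtain ⟨e⟩ := kerF_shift (pullback.snd ff ff) ((dPull (pullback.fst ff ff)).obj (K : DM X)) W a
    exact (O.triangEnvelopeIter n).prop_of_iso e.symm
      (ObjectProperty.IsStableUnderShiftBy.le_shift (P := O.triangEnvelopeIter n) (a := a) _ (hn K hK))⟩⟩
  haveI : S.ContainsZero := ⟨⟨_, isZero_zero _, 0, fun K _ =>
    haveI := additive_kerF (pullback.snd ff ff) ((dPull (pullback.fst ff ff)).obj (K : DM X))
    iter_isZero O hO (Functor.map_isZero _ (isZero_zero _)) 0⟩⟩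
  haveI : S.IsTriangulatedClosed₂ := ObjectProperty.IsTriangulatedClosed₂.mk' (fun T hT h₁ h₃ => by
    obtain ⟨n, hn⟩ := h₁
    obtain ⟨m, hm⟩ := h₃
    refine ⟨n + (m + 1), fun K hK => ?_⟩
    obtain ⟨T', hT', ⟨e₁⟩, ⟨e₂⟩, ⟨e₃⟩⟩ := kerF_triangle (pullback.snd ff ff) ((dPull (pullback.fst ff ff)).obj (K : DM X)) T hT
    refine (O.triangEnvelopeIter (n + (m + 1))).prop_of_iso e₂ ?_
    rw [ObjectProperty.triangEnvelopeIter_add' O rfl]
    exact ObjectProperty.le_retractClosure _ _ ⟨_, _, _, _, _, hT',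
      (O.triangEnvelopeIter n).prop_of_iso e₁.symm (hn K hK),
      (O.triangEnvelopeIter m).prop_of_iso e₃.symm (hm K hK)⟩)
  haveI : S.IsTriangulated := {}
  have hbox : S (DCoh.inD PR (box (R := k) E G)) := ⟨0, fun K hK =>
    phiK_box_mem (O.triangEnvelopeIter 0) (fun Z hZ => iter_isZero O hO hZ 0) (fun A B hA hB => iter_biprod O hA hB)
      (DGen9.isQCohD_of_isPerfect hK) hE hG
      (K0Coh.bd_of_isPerfect (FMAdj9.isPerfect_tensor_perf
        (DPerf.isPerfect_iff_approx.2 (DPerf.approx_inD_of_isFinLocFree hE)) hK))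
      fun d _ => ObjectProperty.IsStableUnderShiftBy.le_shift (P := O.triangEnvelopeIter 0) (a := -d) _
        (O.le_triangEnvelopeIter 0 _ hO)⟩
  obtain ⟨n, hn⟩ := ((ObjectProperty.triangEnvelope_le_iff _).2 (by
    rintro _ ⟨⟩
    exact hbox)) _ hΔ
  refine ⟨DCoh.inD X G, n, hpG, fun K hK => ?_⟩
  obtain ⟨e⟩ := nonempty_phiK_oDelta (k := k) K
  exact (O.triangEnvelopeIter n).prop_of_iso e (hn K hK)

end Groth.Agent.BoxRes9
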