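import Groth.Agent.Lib.BoxRes9.Diag
import Groth.Agent.Lib.FMAdj9.Comp
import Groth.Agent.Lib.FMAdj9.ConvPerf
import Groth.Agent.Lib.FMDiag9.Basic
import Groth.Agent.Lib.SerreP9.Linear
import Groth.Agent.Lib.TwistBC9.LTTri
import Groth.Agent.Lib.DPush.Adapted
import Groth.Agent.Lib.KFlat.LpullPC

/-! Kernel functors applied to box products and to the diagonal. -/

set_option autoImplicit false
set_option linter.style.haveILetI false
set_option linter.unusedSectionVars false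
set_option backward.isDefEq.respectTransparency false
set_option backward.isDefEq.respectTransparency.types false
set_option maxHeartbeats 1600000

universe u

open CategoryTheory CategoryTheory.Limits AlgebraicGeometry CategoryTheory.Pretriangulated MonoidalCategory

attribute [local instance] HasDerivedCategory.standard

noncomputable section

namespace Groth.Agent.BoxRes9

open DMon9 KFlat KFlat.Sch

attribute [local instance] DBC9.hasRpush

variable {P Y : Scheme.{u}}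

/-- A module in degree zero, in the monoidal category. -/
abbrev sgD {X : Scheme.{u}} (M : X.Modules) : DM X := (DCoh.inD X M : DCoh.D X)

theorem nonempty_sgD_iso {X : Scheme.{u}} (M : X.Modules) (h : FlatMod.IsFinLocFree M) :
    ∃ K : KF X, K.obj = RHom.sg 0 M ∧ Nonempty ((qM X).obj K ≅ sgD M) :=
  ⟨⟨RHom.sg 0 M, isKFlat_single 0 M ((KFlat.Sch.isFlat_iff M).2 (isFlat_of_isFinLocFree h))⟩, rfl,
    ⟨(((DerivedCategory.singleFunctorIsoCompQ X.Modules 0).app M).symm :)⟩⟩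

/-- The tensor product of modules in degree zero. -/
theorem nonempty_sgD_tensor {X : Scheme.{u}} (M G : X.Modules) (hG : FlatMod.IsFinLocFree G) :
    Nonempty ((sgD M ⊗ sgD G : DM X) ≅ sgD (CohB1.tensorMod M G)) := by
  obtain ⟨K, hK, ⟨e⟩⟩ := nonempty_sgD_iso G hG
  haveI := KFlat.Sch.hasLTensorCx K.obj
  let s := fun N : X.Modules => (DerivedCategory.singleFunctorIsoCompQ X.Modules 0).app N
  let w : (sgD M ⊗ (qM X).obj K : DM X) ≅ sgD M ⊗ sgD G := whiskerLeftIso _ e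
  let a : (tR K).obj (DCoh.inD X M) ≅ (DCoh.LTensorCx K.obj).obj (DCoh.inD X M) := (theta K).app _
  let b : (DCoh.LTensorCx K.obj).obj (DCoh.inD X M) ≅
      DerivedCategory.Q.obj (((tcx (TX X)).flip.obj K.obj).obj (RHom.sg 0 M)) :=
    (DCoh.LTensorCx K.obj).mapIso (s M) ≪≫ TwistBC9.ltObj K _
  have hT : Nonempty (((tcx (TX X)).flip.obj K.obj).obj (RHom.sg 0 M) ≅ RHom.sg 0 (CohB1.tensorMod M G)) := by
    rw [hK]
    exact ⟨(FMDiag9.singleIso G).app _ ≪≫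
      (HomologicalComplex.singleMapHomologicalComplex ((TX X).flip.obj G) (ComplexShape.up ℤ) 0).app M⟩
  obtain ⟨c⟩ := hT
  exact ⟨w.symm ≪≫ ((a ≪≫ b ≪≫ DerivedCategory.Q.mapIso c ≪≫ (s _).symm) :)⟩

/-- Pulling back a locally free module. -/
theorem nonempty_lP_sgD (f : P ⟶ Y) (M : Y.Modules) (h : FlatMod.IsFinLocFree M) :
    Nonempty ((lP f).obj (DCoh.inD Y M) ≅ DCoh.inD P ((Scheme.Modules.pullback f).obj M)) := by
  obtain ⟨K, hK, ⟨e⟩⟩ := nonempty_sgD_iso M h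
  have hT : Nonempty ((pullCx f).obj K.obj ≅ RHom.sg 0 ((Scheme.Modules.pullback f).obj M)) := by
    rw [hK]
    exact ⟨(HomologicalComplex.singleMapHomologicalComplex (Scheme.Modules.pullback f) (ComplexShape.up ℤ) 0).app M⟩
  obtain ⟨c⟩ := hT
  exact ⟨(lP f).mapIso (e :).symm ≪≫ (lPFac f).app K ≪≫ DerivedCategory.Q.mapIso c ≪≫
    ((DerivedCategory.singleFunctorIsoCompQ P.Modules 0).app _).symm⟩

theorem nonempty_braid {X : Scheme.{u}} (a b : DM X) : Nonempty ((a ⊗ b : DM X) ≅ b ⊗ a) :=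
  let ⟨c⟩ := FMAdj9.nonempty_comm a
  ⟨c.app b⟩

/-- Rearranging a triple product. -/
theorem nonempty_swap₃ {X : Scheme.{u}} (a b c : DM X) : Nonempty (((a ⊗ b) ⊗ c : DM X) ≅ (a ⊗ c) ⊗ b) := by
  obtain ⟨e⟩ := nonempty_braid b c
  exact ⟨α_ a b c ≪≫ whiskerLeftIso a e ≪≫ (α_ a c b).symm⟩

/-- An object as a flat complex. -/
def kfOf {X : Scheme.{u}} (A : DM X) : KF X := (exists_qM (A : DCoh.D X)).choose

/-- The comparison. -/
def kfIso {X : Scheme.{u}} (A : DM X) : (qM X).obj (kfOf A) ≅ A := (exists_qM (A : DCoh.D X)).choose_spec.some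

variable (q : P ⟶ Y)

/-- The functor `W ↦ Rq_*(W ⊗ A)`. -/
def kerF (A : DM P) : DCoh.D P ⥤ DCoh.D Y := FMAdj9.tRD A ⋙ DCoh.Rpush q

theorem additive_kerF (A : DM P) : (kerF q A).Additive := by
  haveI := SerreP9.additive_tRD A
  obtain ⟨_, _⟩ := DPush.exists_commShift_isTriangulated q
  unfold kerF
  infer_instance

theorem kerF_shift (A : DM P) (W : DCoh.D P) (n : ℤ) :
    Nonempty ((kerF q A).obj (W⟦n⟧) ≅ ((kerF q A).obj W)⟦n⟧) := by
  haveI := KFlat.Sch.hasLTensorCx (kfOf A).obj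
  obtain ⟨_, _⟩ := DPush.exists_commShift_isTriangulated q
  let e : FMAdj9.tRD A ≅ DCoh.LTensorCx (kfOf A).obj := (FMAdj9.tRDMap (kfIso A)).symm ≪≫ theta (kfOf A)
  obtain ⟨s⟩ := TwistBC9.nonempty_LT_shift (kfOf A) W n
  exact ⟨(DCoh.Rpush q).mapIso (e.app _ ≪≫ s ≪≫ (shiftFunctor _ n).mapIso (e.app W).symm) ≪≫
    ((DCoh.Rpush q).commShiftIso n).app _⟩

theorem kerF_triangle (A : DM P) (T : Triangle (DCoh.D P)) (hT : T ∈ distTriang _) :
    ∃ T' : Triangle (DCoh.D Y), T' ∈ distTriang _ ∧ Nonempty (T'.obj₁ ≅ (kerF q A).obj T.obj₁) ∧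
      Nonempty (T'.obj₂ ≅ (kerF q A).obj T.obj₂) ∧ Nonempty (T'.obj₃ ≅ (kerF q A).obj T.obj₃) := by
  haveI := KFlat.Sch.hasLTensorCx (kfOf A).obj
  obtain ⟨cs, ht⟩ := DPush.exists_commShift_isTriangulated q
  letI := cs
  let e : FMAdj9.tRD A ≅ DCoh.LTensorCx (kfOf A).obj := (FMAdj9.tRDMap (kfIso A)).symm ≪≫ theta (kfOf A)
  obtain ⟨T', hT', ⟨e₁⟩, ⟨e₂⟩, ⟨e₃⟩⟩ := TwistBC9.exists_triangle_LT (kfOf A) T hT
  exact ⟨(DCoh.Rpush q).mapTriangle.obj T', (DCoh.Rpush q).map_distinguished _ hT',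
    ⟨(DCoh.Rpush q).mapIso (e₁ ≪≫ (e.app _).symm)⟩, ⟨(DCoh.Rpush q).mapIso (e₂ ≪≫ (e.app _).symm)⟩,
    ⟨(DCoh.Rpush q).mapIso (e₃ ≪≫ (e.app _).symm)⟩⟩

variable {k : Type u} [Field k] {X : Scheme.{u}} [X.Over (Spec (.of k))]

local notation "ff" => (X ↘ Spec (CommRingCat.of k))
local notation "PR" => pullback (X ↘ Spec (CommRingCat.of k)) (X ↘ Spec (CommRingCat.of k))
local notation "p₁" => pullback.fst (X ↘ Spec (CommRingCat.of k)) (X ↘ Spec (CommRingCat.of k))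
local notation "p₂" => pullback.snd (X ↘ Spec (CommRingCat.of k)) (X ↘ Spec (CommRingCat.of k))

variable (k) in
/-- The functor `W ↦ Rpr₂_*(W ⊗ Lpr₁^* K)`. -/
abbrev phiK (K : DCoh.D X) : DCoh.D PR ⥤ DCoh.D X := kerF p₂ ((dPull p₁).obj (K : DM X))

/-- The diagonal acts as the identity. -/
theorem nonempty_phiK_oDelta [IsSeparated (X ↘ Spec (CommRingCat.of k))] (K : DCoh.D X) :
    Nonempty ((phiK k K).obj (DCoh.inD PR (oDelta k X)) ≅ K) := by
  let i := pullback.diagonal ff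
  let Kc : CochainComplex (PR).Modules ℤ := RHom.sg 0 (FMDiag9.dO i)
  haveI : DCoh.HasLpull p₁ := KFlat.Sch.hasLpull _
  haveI : DCoh.HasLTensorCx Kc := KFlat.Sch.hasLTensorCx _
  haveI : DCoh.HasLTensorCx (RHom.sg 0 (FMDiag9.dO i)) := KFlat.Sch.hasLTensorCx _
  let s := (DerivedCategory.singleFunctorIsoCompQ (PR).Modules 0).app (FMDiag9.dO i)
  obtain ⟨n⟩ := FMDiag9.nonempty_main i p₁ p₂ (pullback.diagonal_snd _)
    (pullback.diagonal_fst _) Kc ⟨s.symm⟩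
  obtain ⟨f⟩ := FMAdj9.nonempty_phiIso p₁ p₂ Kc
  let a : DM PR := (DCoh.inD PR (oDelta k X) : DCoh.D PR)
  let a' : DM PR := (DCoh.toD PR Kc : DCoh.D PR)
  let ea : a' ≅ a := (s.symm :)
  let b : DM PR := (dPull p₁).obj (K : DM X)
  obtain ⟨c⟩ := nonempty_braid a b
  let t : (a ⊗ b : DM PR) ≅ b ⊗ a' := c ≪≫ whiskerLeftIso b ea.symm
  exact ⟨(DCoh.Rpush p₂).mapIso (t :) ≪≫ (f.app K).symm ≪≫ n.app K⟩

/-- A box product acts through the cohomology of the twisted object. -/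
theorem nonempty_phiK_box [QuasiCompact ff] [QuasiSeparated ff] [Flat ff] (K : DCoh.D X) (hK : DCoh.IsQCohD K)
    {E G : X.Modules} (hE : FlatMod.IsFinLocFree E) (hG : FlatMod.IsFinLocFree G) :
    Nonempty ((phiK k K).obj (DCoh.inD PR (box (R := k) E G)) ≅
      (lP ff ⋙ FMAdj9.tRD (sgD G)).obj ((DCoh.Rpush ff).obj ((sgD E ⊗ (K : DM X) : DM X) : DCoh.D X))) := by
  obtain ⟨eE⟩ := nonempty_lP_sgD p₁ E hE
  obtain ⟨eG⟩ := nonempty_lP_sgD p₂ G hG
  obtain ⟨t⟩ := nonempty_sgD_tensor ((Scheme.Modules.pullback p₁).obj E) ((Scheme.Modules.pullback p₂).obj G)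
    (M2.isFinLocFree_pullback _ hG)
  let a : DM PR := (dPull p₁).obj (sgD E)
  let b : DM PR := (dPull p₂).obj (sgD G)
  let c : DM PR := (dPull p₁).obj (K : DM X)
  let ea : a ≅ sgD ((Scheme.Modules.pullback p₁).obj E) := (eE :)
  let eb : b ≅ sgD ((Scheme.Modules.pullback p₂).obj G) := (eG :)
  let tb : (a ⊗ b : DM PR) ≅ sgD (box (R := k) E G) := tensorIso ea eb ≪≫ t
  let M : DM X := sgD E ⊗ (K : DM X)
  have hM : DCoh.IsQCohD (M : DCoh.D X) :=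
    DMon9.isQCohD_tensor (DGen9.isQCohD_of_isPerfect (DPerf.isPerfect_iff_approx.2 (DPerf.approx_inD_of_isFinLocFree hE))) hK
  obtain ⟨w⟩ := nonempty_swap₃ a b c
  let m : ((a ⊗ b) ⊗ c : DM PR) ≅ (dPull p₁).obj M ⊗ b :=
    w ≪≫ whiskerRightIso (Functor.Monoidal.μIso (dPull p₁) (sgD E) (K : DM X)) b
  have hGq : DCoh.IsQCohD (sgD G : DCoh.D X) :=
    DGen9.isQCohD_of_isPerfect (DPerf.isPerfect_iff_approx.2 (DPerf.approx_inD_of_isFinLocFree hG))
  haveI := isIso_projT p₂ ((dPull p₁).obj M) (isQCohD_lP p₁ hM) (sgD G) hGq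
  let pr : (FMAdj9.tRD (sgD G)).obj ((DCoh.Rpush p₂).obj ((lP p₁).obj (M : DCoh.D X))) ≅
      (DCoh.Rpush p₂).obj (((dPull p₁).obj M ⊗ b : DM PR) : DCoh.D PR) :=
    (asIso ((projT p₂ ((dPull p₁).obj M)).app (sgD G)) :)
  let σ : lP ff ⋙ lP p₂ ≅ lP ff ⋙ lP p₁ := DBC9.σcan (IsPullback.of_hasPullback ff ff).w.symm
  haveI := FMAdj9.good_flat (IsPullback.of_hasPullback ff ff) (Or.inl inferInstance) (adjLP ff) (adjLP p₂) σ
    (M : DCoh.D X) hM
  let bc : (lP ff).obj ((DCoh.Rpush ff).obj (M : DCoh.D X)) ≅ (DCoh.Rpush p₂).obj ((lP p₁).obj (M : DCoh.D X)) :=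
    (asIso ((DBC9.bc (adjLP ff) (adjLP p₂) σ.hom).app (M : DCoh.D X)) :)
  let tw : ((sgD (box (R := k) E G)) ⊗ c : DM PR) ≅ (dPull p₁).obj M ⊗ b := whiskerRightIso tb.symm c ≪≫ m
  exact ⟨(DCoh.Rpush p₂).mapIso (tw :) ≪≫ pr.symm ≪≫ (FMAdj9.tRD (sgD G)).mapIso bc.symm⟩

end Groth.Agent.BoxRes9
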