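import Groth.Agent.Lib.QCoh8.Colim
import Groth.Agent.Lib.QCoh8.Sub
import Groth.Agent.Lib.CBC10.CorepHom
import Groth.Agent.Lib.StQC14.SepEpi
import Groth.Agent.Lib.DbCohProj9.Main
import Groth.Agent.Lib.StQC14.FinPushGen
import Groth.Agent.Lib.CohMop.Bidual
import Groth.Agent.Lib.CohMop.TensorDerived
import Groth.Agent.Lib.ModM1.Push
import Groth.Agent.Lib.ModM1.Pull
import Groth.Agent.Lib.DGen9.Gen
import Groth.Prelude.Def_PerfAux

/-! Box products of locally free modules surject onto modules of finite type on a product. -/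

set_option autoImplicit false
set_option linter.style.haveILetI false
set_option linter.unusedSectionVars false
set_option backward.isDefEq.respectTransparency false
set_option backward.isDefEq.respectTransparency.types false
set_option maxHeartbeats 1600000

universe u

open CategoryTheory CategoryTheory.Limits AlgebraicGeometry Opposite

attribute [local instance] CategoryTheory.Abelian.hasFiniteBiproducts

noncomputable section

namespace Groth.Agent.BoxRes9

/-- With the resolution property, maps from locally free modules detect zero. -/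
theorem eq_zero_of_flf {X : Scheme.{u}} [CompactSpace X] [QuasiSeparatedSpace X]
    (hX : PerfAux.HasResolutionProperty X) {A B : X.Modules} (hA : Coh.IsQCoh A) (w : A ⟶ B)
    (h : ∀ (E : X.Modules), FlatMod.IsFinLocFree E → ∀ ψ : E ⟶ A, ψ ≫ w = 0) : w = 0 := by
  refine StQC14.hom_eq_zero_of_affine w fun U hU s => ?_
  obtain ⟨q, hq, hq', a, rfl⟩ := QCoh8.exists_ft_mem hA hU.isCompact s
  obtain ⟨E, π, hE, hπ⟩ := hX q.P hq hq'
  have h0 : q.i ≫ w = 0 := (cancel_epi π).1 (by rw [← Category.assoc, h E hE, comp_zero])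
  change (q.i ≫ w).app U a = 0
  rw [h0]
  rfl

theorem isQCoh_ihom {X : Scheme.{u}} {A F : X.Modules} (hA : FlatMod.IsFinLocFree A) (hF : Coh.IsQCoh F) :
    Coh.IsQCoh ((CohMop.ihom A).obj F) := by
  haveI : ModSite.HasSheafHom (O := X.sheaf) A := CohMop.isLeftAdjoint_tenR _
  haveI := CohMop.isIso_bidual hA
  let β : CohMop.tenR (CohMop.dual A) ≅ CohMop.ihom A :=
    CohMop.tenRIhomIso (CohMop.dual A) (CohMop.isFinLocFree_dual hA) ≪≫ CohMop.ihomIso (asIso (CohMop.bidual A)).symm
  exact M1.isQCoh_of_isIso (β.app F)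
    (M2.isQCoh_tensor hF (M2.isQCoh_of_isFinLocFree (CohMop.isFinLocFree_dual hA)))

theorem app_eq_zero_congr {P : Scheme.{u}} {M N : P.Modules} (f : M ⟶ N) {T T' : P.Opens} (e : T = T')
    (h : ∀ s, f.app T s = 0) (s : Γ(M, T')) : f.app T' s = 0 := by
  subst e
  exact h s

theorem map_app_image {P : Scheme.{u}} {A : P.Modules} {F N : P.Modules} (u : F ⟶ N) (W : P.Opens)
    (h : ∀ s : Γ((CohMop.ihom A).obj F, W), ((CohMop.ihom A).map u).app W s = 0)
    (ω : Coh.structureModule (W : Scheme.{u}) ⟶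
      (Scheme.Modules.restrictFunctor W.ι).obj ((CohMop.ihom A).obj F)) :
    ω ≫ (Scheme.Modules.restrictFunctor W.ι).map ((CohMop.ihom A).map u) = 0 := by
  refine M1.unit_hom_ext ?_
  exact app_eq_zero_congr ((CohMop.ihom A).map u) (T' := W.ι ''ᵁ ⊤)
    (by rw [Scheme.Hom.image_top_eq_opensRange, Scheme.Opens.opensRange_ι]) h (ω.app ⊤ (M1.one ⊤))

/-- Vanishing on sections of the internal hom gives vanishing on homs over the open. -/
theorem comp_restrict_eq_zero {P : Scheme.{u}} {A : P.Modules} {F N : P.Modules} (u : F ⟶ N) (W : P.Opens)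
    (h : ∀ s : Γ((CohMop.ihom A).obj F, W), ((CohMop.ihom A).map u).app W s = 0)
    (χ : (Scheme.Modules.restrictFunctor W.ι).obj A ⟶ (Scheme.Modules.restrictFunctor W.ι).obj F) :
    χ ≫ (Scheme.Modules.restrictFunctor W.ι).map u = 0 := by
  let res := Scheme.Modules.restrictFunctor W.ι
  let adjW := CohMop.ihomAdj (res.obj A)
  let l := M2.tensorLUnit (res.obj A)
  let θ := CohMop.restrictIhomIso W A
  have hn : θ.inv.app F ≫ res.map ((CohMop.ihom A).map u) =
      (CohMop.ihom (res.obj A)).map (res.map u) ≫ θ.inv.app N := (θ.inv.naturality u).symm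
  let g := adjW.homEquiv (Coh.structureModule (W : Scheme.{u})) _ (l.hom ≫ χ)
  have h0 : (g ≫ θ.inv.app F) ≫ res.map ((CohMop.ihom A).map u) = 0 := map_app_image u W h _
  rw [Category.assoc, hn, ← Category.assoc] at h0
  have h1 : g ≫ (CohMop.ihom (res.obj A)).map (res.map u) = 0 :=
    (cancel_mono (θ.inv.app N)).1 (h0.trans zero_comp.symm)
  have h4 : (l.hom ≫ χ) ≫ res.map u = 0 := by
    apply (adjW.homEquiv (Coh.structureModule (W : Scheme.{u})) (res.obj N)).injective
    rw [Adjunction.homEquiv_naturality_right, Adjunction.homEquiv_unit _ _ _ 0, Functor.map_zero, comp_zero]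
    exact h1
  rw [← cancel_epi l.hom, ← Category.assoc, h4, comp_zero]

theorem pushforward_app_eq_zero {P Q : Scheme.{u}} {F N : P.Modules} (u : F ⟶ N) (W : P.Opens) (f : (W : Scheme.{u}) ⟶ Q)
    (hm : (Scheme.Modules.pushforward f).map ((Scheme.Modules.restrictFunctor W.ι).map u) = 0) (V : Q.Opens)
    (t : Γ(F, W.ι ''ᵁ (f ⁻¹ᵁ V))) : u.app (W.ι ''ᵁ (f ⁻¹ᵁ V)) t = 0 :=
  congrArg (fun φ => φ.app V t) hm

variable {R : Type u} [CommRing R] {X Y : Scheme.{u}} [X.Over (Spec (.of R))] [Y.Over (Spec (.of R))]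

local notation "PR" => pullback (X ↘ Spec (CommRingCat.of R)) (Y ↘ Spec (CommRingCat.of R))
local notation "p₁" => pullback.fst (X ↘ Spec (CommRingCat.of R)) (Y ↘ Spec (CommRingCat.of R))
local notation "p₂" => pullback.snd (X ↘ Spec (CommRingCat.of R)) (Y ↘ Spec (CommRingCat.of R))


/-- A map killed by all box products of locally free modules is zero. -/
theorem eq_zero_of_box [CompactSpace X] [QuasiSeparatedSpace X] [CompactSpace Y] [QuasiSeparatedSpace Y]
    (hX : PerfAux.HasResolutionProperty X) (hY : PerfAux.HasResolutionProperty Y)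
    {F N : (PR).Modules} (hF : Coh.IsQCoh F) (u : F ⟶ N)
    (h : ∀ (E : X.Modules) (G : Y.Modules), FlatMod.IsFinLocFree E → FlatMod.IsFinLocFree G →
      ∀ φ : CohB1.tensorMod ((Scheme.Modules.pullback p₁).obj E) ((Scheme.Modules.pullback p₂).obj G) ⟶ F,
        φ ≫ u = 0) : u = 0 := by
  haveI : QuasiCompact (X ↘ Spec (CommRingCat.of R)) :=
    HasAffineProperty.iff_of_isAffine.mpr (inferInstance : CompactSpace X)
  haveI : QuasiSeparated (X ↘ Spec (CommRingCat.of R)) :=
    HasAffineProperty.iff_of_isAffine.mpr (inferInstance : QuasiSeparatedSpace X)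
  haveI : QuasiCompact (Y ↘ Spec (CommRingCat.of R)) :=
    HasAffineProperty.iff_of_isAffine.mpr (inferInstance : CompactSpace Y)
  haveI : QuasiSeparated (Y ↘ Spec (CommRingCat.of R)) :=
    HasAffineProperty.iff_of_isAffine.mpr (inferInstance : QuasiSeparatedSpace Y)
  -- step 1: along the first projection
  have h1 : ∀ (G : Y.Modules), FlatMod.IsFinLocFree G → ∀ (U : X.Opens)
      (s : Γ((CohMop.ihom ((Scheme.Modules.pullback p₂).obj G)).obj F, p₁ ⁻¹ᵁ U)),
      ((CohMop.ihom ((Scheme.Modules.pullback p₂).obj G)).map u).app (p₁ ⁻¹ᵁ U) s = 0 := by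
    intro G hG U s
    let A := (Scheme.Modules.pullback p₂).obj G
    have hm : (Scheme.Modules.pushforward p₁).map ((CohMop.ihom A).map u) = 0 := by
      refine eq_zero_of_flf hX (M1.isQCoh_push p₁ (isQCoh_ihom (M2.isFinLocFree_pullback p₂ hG) hF)) _
        fun E hE ψ => ?_
      let adj := Scheme.Modules.pullbackPushforwardAdjunction p₁
      let ψ₁ := (adj.homEquiv _ _).symm ψ
      let φ := ((CohMop.ihomAdj A).homEquiv _ _).symm ψ₁
      have hφ : φ ≫ u = 0 := h E G hE hG φ
      have h2 : ψ₁ ≫ (CohMop.ihom A).map u = 0 := by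
        rw [show ψ₁ = (CohMop.ihomAdj A).homEquiv _ _ φ from (((CohMop.ihomAdj A).homEquiv _ _).apply_symm_apply ψ₁).symm,
          ← Adjunction.homEquiv_naturality_right, hφ, Adjunction.homEquiv_unit, Functor.map_zero, comp_zero]
      rw [show ψ = adj.homEquiv _ _ ψ₁ from ((adj.homEquiv _ _).apply_symm_apply ψ).symm,
        ← Adjunction.homEquiv_naturality_right, h2, Adjunction.homEquiv_unit, Functor.map_zero, comp_zero]
    have := congrArg (fun f => f.app U s) hm
    exact this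
  -- step 2: along the second projection
  choose U hU hxU using fun x : X => (exists_isAffineOpen_mem_and_subset (X := X) (x := x) (U := ⊤) trivial)
  choose V hV hyV using fun y : Y => (exists_isAffineOpen_mem_and_subset (X := Y) (x := y) (U := ⊤) trivial)
  have h2 : ∀ (U : X.Opens) (V : Y.Opens), IsAffineOpen U → IsAffineOpen V →
      IsAffineOpen (p₁ ⁻¹ᵁ U ⊓ p₂ ⁻¹ᵁ V) ∧
      ∀ s : Γ(F, p₁ ⁻¹ᵁ U ⊓ p₂ ⁻¹ᵁ V), u.app (p₁ ⁻¹ᵁ U ⊓ p₂ ⁻¹ᵁ V) s = 0 := by
    intro U V hU hV
    let W := p₁ ⁻¹ᵁ U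
    have hpb : IsPullback (W.ι ≫ p₂) (p₁ ∣_ U) (Y ↘ Spec (CommRingCat.of R)) (U.ι ≫ X ↘ Spec (CommRingCat.of R)) :=
      (isPullback_morphismRestrict p₁ U).flip.paste_horiz (IsPullback.of_hasPullback _ _).flip
    haveI : IsAffine U := hU
    haveI : IsAffineHom (U.ι ≫ X ↘ Spec (CommRingCat.of R)) := inferInstance
    haveI : IsAffineHom (W.ι ≫ p₂) := MorphismProperty.of_isPullback hpb.flip inferInstance
    have hT : W.ι ''ᵁ ((W.ι ≫ p₂) ⁻¹ᵁ V) = W ⊓ p₂ ⁻¹ᵁ V := by
      rw [Scheme.Hom.comp_preimage, Scheme.Hom.image_preimage_eq_opensRange_inf, Scheme.Opens.opensRange_ι]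
    refine ⟨by rw [← hT]; exact (hV.preimage (W.ι ≫ p₂)).image_of_isOpenImmersion W.ι, fun s => ?_⟩
    let res := Scheme.Modules.restrictFunctor W.ι
    have hm : (Scheme.Modules.pushforward (W.ι ≫ p₂)).map (res.map u) = 0 := by
      refine eq_zero_of_flf hY (M1.isQCoh_push _ (M1.isQCoh_restrict hF W.ι)) _ fun G hG ψ => ?_
      let A := (Scheme.Modules.pullback p₂).obj G
      let adj := Scheme.Modules.pullbackPushforwardAdjunction (W.ι ≫ p₂)
      let e : res.obj A ≅ (Scheme.Modules.pullback (W.ι ≫ p₂)).obj G :=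
        (Scheme.Modules.restrictFunctorIsoPullback W.ι).app _ ≪≫ (Scheme.Modules.pullbackComp W.ι p₂).app _
      let χ := e.hom ≫ (adj.homEquiv _ _).symm ψ
      have hχ : χ ≫ res.map u = 0 := comp_restrict_eq_zero u W (h1 G hG U) χ
      have hψ : (adj.homEquiv _ _).symm ψ ≫ res.map u = 0 := by
        rw [← cancel_epi e.hom, ← Category.assoc, comp_zero]
        exact hχ
      rw [show ψ = adj.homEquiv _ _ ((adj.homEquiv _ _).symm ψ) from ((adj.homEquiv _ _).apply_symm_apply ψ).symm,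
        ← Adjunction.homEquiv_naturality_right, hψ, Adjunction.homEquiv_unit, Functor.map_zero, comp_zero]
    exact app_eq_zero_congr u hT (pushforward_app_eq_zero u W (W.ι ≫ p₂) hm V) s
  exact QCoh8.hom_eq_zero_of_affine_cover hF u (fun z : X × Y => p₁ ⁻¹ᵁ (U z.1) ⊓ p₂ ⁻¹ᵁ (V z.2))
    (fun z => (h2 _ _ (hU _) (hV _)).1)
    (fun x => ⟨((p₁).base x, (p₂).base x), (hxU _).1, (hyV _).1⟩)
    fun z => (h2 _ _ (hU _) (hV _)).2

theorem tensorMap_zero {Z : Scheme.{u}} {L L' M M' : Z.Modules} (g : M ⟶ M') :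
    M2.tensorMap (0 : L ⟶ L') g = 0 := by
  rw [show M2.tensorMap (0 : L ⟶ L') g = M2.tensorMap ((0 : L ⟶ L') ≫ 𝟙 L') (𝟙 M ≫ g) by simp,
    M2.tensorMap_comp, ← VB17.whisker_eq_tensorMap]
  have h : (DCoh.tensorRightMod M).map (0 : L ⟶ L') = 0 := Functor.map_zero _ _ _
  erw [h]
  exact zero_comp

/-- A box product surjects onto a module of finite type. -/
theorem exists_epi [CompactSpace X] [QuasiSeparatedSpace X] [CompactSpace Y] [QuasiSeparatedSpace Y]
    (hX : PerfAux.HasResolutionProperty X) (hY : PerfAux.HasResolutionProperty Y)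
    (F : (PR).Modules) (hF : Coh.IsQCoh F) (hF' : CohB1.IsFT F) :
    ∃ (E : X.Modules) (G : Y.Modules), FlatMod.IsFinLocFree E ∧ FlatMod.IsFinLocFree G ∧
      ∃ π : CohB1.tensorMod ((Scheme.Modules.pullback p₁).obj E) ((Scheme.Modules.pullback p₂).obj G) ⟶ F,
        Epi π := by
  classical
  haveI : QuasiCompact (X ↘ Spec (CommRingCat.of R)) :=
    HasAffineProperty.iff_of_isAffine.mpr (inferInstance : CompactSpace X)
  haveI : CompactSpace ↥(PR) :=
    QuasiCompact.compactSpace_of_compactSpace p₂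
  let κ := {z : X.Modules × Y.Modules // FlatMod.IsFinLocFree z.1 ∧ FlatMod.IsFinLocFree z.2}
  let B := fun (E : X.Modules) (G : Y.Modules) =>
    CohB1.tensorMod ((Scheme.Modules.pullback p₁).obj E) ((Scheme.Modules.pullback p₂).obj G)
  obtain ⟨n, j, π, hπ⟩ := StQC14.exists_finite_epi_of_sep (fun z : κ => B z.1.1 z.1.2)
    (fun z => M2.isQCoh_tensor (M2.isQCoh_of_isFinLocFree (M2.isFinLocFree_pullback _ z.2.1))
      (M2.isQCoh_of_isFinLocFree (M2.isFinLocFree_pullback _ z.2.2))) F hF hF'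
    fun {N} _ u hu => eq_zero_of_box hX hY hF u fun E G hE hG φ => hu ⟨(E, G), hE, hG⟩ φ
  let Es := fun i => (j i).1.1
  let Gs := fun i => (j i).1.2
  let T := fun i => B (Es i) (Gs i)
  refine ⟨⨁ Es, ⨁ Gs, KFlat.Sch.isFinLocFree_biproduct _ fun i => (j i).2.1,
    KFlat.Sch.isFinLocFree_biproduct _ fun i => (j i).2.2,
    biproduct.lift (fun i => M2.tensorMap ((Scheme.Modules.pullback p₁).map (biproduct.π Es i))
      ((Scheme.Modules.pullback p₂).map (biproduct.π Gs i))) ≫ (biproduct.isoCoproduct T).hom ≫ π, ?_⟩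
  let sec : (⨁ T) ⟶ B (⨁ Es) (⨁ Gs) := biproduct.desc fun i =>
    M2.tensorMap ((Scheme.Modules.pullback p₁).map (biproduct.ι Es i))
      ((Scheme.Modules.pullback p₂).map (biproduct.ι Gs i))
  haveI : IsSplitEpi (biproduct.lift (fun i => M2.tensorMap ((Scheme.Modules.pullback p₁).map (biproduct.π Es i))
      ((Scheme.Modules.pullback p₂).map (biproduct.π Gs i))) : B (⨁ Es) (⨁ Gs) ⟶ ⨁ T) := by
    refine ⟨⟨sec, biproduct.hom_ext' _ _ fun a => biproduct.hom_ext _ _ fun b => ?_⟩⟩
    simp only [sec, Category.comp_id, biproduct.ι_desc_assoc, Category.assoc, biproduct.lift_π]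
    rw [← M2.tensorMap_comp, ← Functor.map_comp, ← Functor.map_comp]
    by_cases hab : a = b
    · subst hab
      rw [biproduct.ι_π_self, biproduct.ι_π_self, biproduct.ι_π_self, CategoryTheory.Functor.map_id,
        CategoryTheory.Functor.map_id, M2.tensorMap_id]
    · rw [biproduct.ι_π_ne Es hab, biproduct.ι_π_ne T hab, Functor.map_zero, tensorMap_zero]
  haveI := hπ
  infer_instance

end Groth.Agent.BoxRes9
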